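import Cfsg.Agent.H873.Tits.AsmA

/-!
# S3414 [PSLPSL]: the inequality `(st)_r ^ (m - 1) ≤ (i_x)_r (T_y)_r` (helper354)
-/

set_option autoImplicit false

namespace Cfsg.Agent.H354.PP

open Subgroup Cfsg.Agent.H873.Tits

universe u v

variable {G : Type u} [Group G] {V : Type v} [MulAction G V] {P : Pol G V}

theorem card_img [Finite G] (v : V) (X : Subgroup G) (hX : X ≤ P.S v) :
    Nat.card X = Nat.card ↥(X ⊓ P.K v) * Nat.card ↥(P.img v X) := by
  let ψ : X →* Equiv.Perm {w : V // P.adj v w} := (P.toPerm v).comp (Subgroup.inclusion hX)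
  have h1 := ψ.ker.card_mul_index
  rw [Subgroup.index_ker] at h1
  have h2 : ψ.ker.map X.subtype = X ⊓ P.K v := by
    ext g
    constructor
    · rintro ⟨g', hg', rfl⟩
      refine ⟨g'.2, (hX g'.2 : (g' : G) • v = v), fun w hw => ?_⟩
      exact congrArg Subtype.val (Equiv.Perm.congr_fun (MonoidHom.mem_ker.1 hg') ⟨w, hw⟩)
    · rintro ⟨hg, hgK⟩
      refine ⟨⟨g, hg⟩, MonoidHom.mem_ker.2 (Equiv.Perm.ext fun w => Subtype.ext ?_), rfl⟩
      exact hgK.2 w w.2
  have h3 : ψ.range = P.img v X := by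
    ext f
    rw [mem_img]
    constructor
    · rintro ⟨g, rfl⟩
      exact ⟨g, g.2, hX g.2, rfl⟩
    · rintro ⟨g, hg, hg', rfl⟩
      exact ⟨⟨g, hg⟩, rfl⟩
  rw [← h2, ← h3, Subgroup.card_map_of_injective (Subgroup.subtype_injective X), h1]

theorem fact_le_of_dvd {a b r : ℕ} (hb : b ≠ 0) (h : a ∣ b) : a.factorization r ≤ b.factorization r :=
  (Nat.factorization_le_iff_dvd (fun h0 => hb (Nat.eq_zero_of_zero_dvd (h0 ▸ h))) hb).2 h r

/-- **the inequality** -/
theorem main_ineq [Finite G] [Finite V] (F : Facts P) {p : ℕ} (hA : CaseA P p) {x x' y w : V} (hxy : P.adj x y)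
    (hyw : P.adj y w) (hxw : x ≠ w) (ho : P.Opp x x') {r : ℕ} (hr : r.Prime) (hrp : r ≠ p) :
    (P.n / 2 - 1) * ((P.q (P.tp x)).factorization r + (P.q (P.tp y)).factorization r) ≤
      (P.idx x x').factorization r + (P.T2 y x w).factorization r := by
  have hp : Fact p.Prime := ⟨hA.prime⟩
  have hty : P.q (!P.tp x) = P.q (P.tp y) := by rw [← P.tp_adj hxy]
  have hs0 : P.q (P.tp x) ≠ 0 := by have := P.two_le (P.tp x); omega
  have ht0 : P.q (P.tp y) ≠ 0 := by have := P.two_le (P.tp y); omega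
  have h1 := F.count_opp ho
  rw [hty] at h1
  have hK0 : Nat.card ↥(P.K x) ≠ 0 := Nat.card_pos.ne'
  have hk0 : Nat.card ↥(P.K x ⊓ P.S x') ≠ 0 := Nat.card_pos.ne'
  have hi0 : P.idx x x' ≠ 0 := by
    intro h
    rw [h, zero_mul] at h1
    exact (mul_ne_zero (mul_ne_zero (pow_ne_zero _ hs0) (pow_ne_zero _ ht0)) hk0) h1.symm
  have h2 : (P.idx x x' * Nat.card ↥(P.K x)).factorization r = (P.q (P.tp x) ^ (P.n / 2 - 1) *
      P.q (P.tp y) ^ (P.n / 2) * Nat.card ↥(P.K x ⊓ P.S x')).factorization r := by rw [h1]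
  rw [Nat.factorization_mul hi0 hK0, Nat.factorization_mul (mul_ne_zero (pow_ne_zero _ hs0) (pow_ne_zero _ ht0)) hk0,
    Nat.factorization_mul (pow_ne_zero _ hs0) (pow_ne_zero _ ht0), Nat.factorization_pow, Nat.factorization_pow] at h2
  simp only [Finsupp.add_apply, Finsupp.smul_apply, smul_eq_mul] at h2
  -- `|K x|`
  have h3 : Nat.card ↥(P.K x) = Nat.card ↥(P.K x ⊓ P.S w) * (P.K x ⊓ P.S w).relIndex (P.K x) := by
    have h4 := ((P.K x ⊓ P.S w).subgroupOf (P.K x)).card_mul_index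
    rw [Nat.card_congr (Subgroup.subgroupOfEquivOfLe (inf_le_left : P.K x ⊓ P.S w ≤ P.K x)).toEquiv] at h4
    exact h4.symm
  have h5 := F.relIndex_dvd hxy (P.symm hyw) hxw
  have hr0 : (P.K x ⊓ P.S w).relIndex (P.K x) ≠ 0 := fun h => ht0 (Nat.eq_zero_of_zero_dvd (h ▸ h5))
  have h6 : (Nat.card ↥(P.K x)).factorization r ≤ (Nat.card ↥(P.K x ⊓ P.S w)).factorization r +
      (P.q (P.tp y)).factorization r := by
    rw [h3, Nat.factorization_mul Nat.card_pos.ne' hr0, Finsupp.add_apply]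
    exact Nat.add_le_add_left (fact_le_of_dvd ht0 h5) _
  -- `|K x ⊓ S w|`
  have hSy : P.K x ⊓ P.S w ≤ P.S y := fun g hg => hg.1.2 y hxy
  have h7 := card_img y (P.K x ⊓ P.S w) hSy
  have h8 : (Nat.card ↥(P.K x ⊓ P.S w ⊓ P.K y)).factorization r = 0 := by
    apply Nat.factorization_eq_zero_of_not_dvd
    intro hd
    obtain ⟨n, hn⟩ := (IsPGroup.iff_card (p := p)).1 (hA.pgroup hxy)
    have h9 : r ∣ p ^ n := by
      rw [← hn]
      exact hd.trans (Subgroup.card_dvd_of_le (le_inf (inf_le_left.trans inf_le_left) inf_le_right))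
    exact hrp ((Nat.prime_dvd_prime_iff_eq hr hA.prime).1 (hr.dvd_of_dvd_pow h9))
  have h9 : (Nat.card ↥(P.K x ⊓ P.S w)).factorization r ≤ (P.T2 y x w).factorization r := by
    rw [h7, Nat.factorization_mul Nat.card_pos.ne' Nat.card_pos.ne', Finsupp.add_apply, h8, zero_add]
    apply fact_le_of_dvd Nat.card_pos.ne'
    exact Subgroup.card_dvd_of_le (img_mono (inf_le_inf_right _ (P.K_le_S x)))
  have hn : 1 ≤ P.n / 2 := by
    have := P.hn
    omega
  obtain ⟨m, hm⟩ : ∃ m, P.n / 2 = m + 1 := ⟨P.n / 2 - 1, by omega⟩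
  rw [hm] at h2 ⊢
  rw [Nat.add_sub_cancel] at h2 ⊢
  rw [add_mul, one_mul] at h2
  rw [mul_add]
  omega

end Cfsg.Agent.H354.PP
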