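import Mathlib
import Cfsg.Agent.SmallSimple.BurnsideNC
import Cfsg.Agent.PermutationGroups.TwoTransitiveNormal

/-!
# S3414 [PSLPSL]: the point stabilizer in a group of degree `p ^ 2 + p + 1` with socle `PSL_3(p)` (helper354)
-/

set_option autoImplicit false

namespace Cfsg.Agent.H354.PP

open Subgroup MulAction

theorem index_centralizer_dvd {R : Type*} [Group R] [Finite R] (N : Subgroup R) [N.Normal] :
    (centralizer (N : Set R)).index ∣ Nat.card (MulAut N) := by
  have h : (MulAut.conjNormal (H := N)).ker = centralizer (N : Set R) := by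
    ext g
    rw [MonoidHom.mem_ker, mem_centralizer_iff]
    constructor
    · intro h x hx
      have h1 := congrArg (fun φ : MulAut N => (φ ⟨x, hx⟩ : R)) h
      simp only [MulAut.conjNormal_apply, MulAut.one_apply] at h1
      calc x * g = (g * x * g⁻¹) * g := by rw [h1]
        _ = g * x := by group
    · intro h
      ext x
      rw [MulAut.conjNormal_apply, MulAut.one_apply]
      have h1 := h x x.2
      rw [← h1]
      group
  rw [← h, Subgroup.index_ker]
  exact Subgroup.card_subgroup_dvd_card _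

theorem mem_norm {M : Type*} [Group M] [Finite M] {B : Subgroup M} {g : M} (h : ∀ x ∈ B, g * x * g⁻¹ ∈ B) :
    g ∈ normalizer (B : Set M) := by
  have h1 : B.map (MulAut.conj g).toMonoidHom = B := by
    apply Subgroup.eq_of_le_of_card_ge
    · rintro _ ⟨x, hx, rfl⟩
      exact h x hx
    · rw [Subgroup.card_map_of_injective (MulAut.conj g).injective]
  rw [mem_normalizer_iff]
  intro x
  refine ⟨h x, fun hx => ?_⟩
  have hx' : g * x * g⁻¹ ∈ B.map (MulAut.conj g).toMonoidHom := by rw [h1]; exact hx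
  obtain ⟨y, hy, hyx⟩ := hx'
  have h2 : y = x := (MulAut.conj g).injective hyx
  rwa [← h2]

/-- a `p`-group normalizing a group of order `p` centralizes it -/
theorem cent_of_norm {M : Type*} [Group M] [Finite M] {p : ℕ} [hp : Fact p.Prime] {R B : Subgroup M}
    (hR : IsPGroup p R) (hB : Nat.card B = p) (hn : R ≤ normalizer (B : Set M)) : ∀ r ∈ R, ∀ b ∈ B, r * b = b * r := by
  have hle : B ≤ normalizer (B : Set M) := le_normalizer
  let N := normalizer (B : Set M)
  let B' : Subgroup N := B.subgroupOf N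
  have hB' : B'.Normal := normal_in_normalizer
  have hc : Nat.card B' = p := by rw [Nat.card_congr (subgroupOfEquivOfLe hle).toEquiv, hB]
  have h1 := index_centralizer_dvd B'
  have hcyc : IsCyclic B' := isCyclic_of_prime_card hc
  rw [hcyc.card_mulAut, hc, Nat.totient_prime hp.out] at h1
  have h2 : ¬ p ∣ (centralizer (B' : Set N)).index := fun h =>
    absurd (Nat.le_of_dvd (Nat.sub_pos_of_lt hp.out.one_lt) (h.trans h1)) (by have := hp.out.one_lt; omega)
  have hCn : (centralizer (B' : Set N)).Normal := inferInstance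
  intro r hr b hb
  have hr' : (⟨r, hn hr⟩ : N) ∈ centralizer (B' : Set N) := by
    obtain ⟨k, hk⟩ := hR ⟨r, hr⟩
    have hk0 : r ^ p ^ k = 1 := congrArg (fun x : R => (x : M)) hk
    have hk' : (⟨r, hn hr⟩ : N) ^ p ^ k = 1 := Subtype.ext hk0
    rw [← QuotientGroup.eq_one_iff, ← orderOf_eq_one_iff]
    have h3 : orderOf ((⟨r, hn hr⟩ : N) : N ⧸ centralizer (B' : Set N)) ∣ p ^ k := by
      rw [orderOf_dvd_iff_pow_eq_one, ← QuotientGroup.mk_pow, hk']
      rfl
    have h4 : orderOf ((⟨r, hn hr⟩ : N) : N ⧸ centralizer (B' : Set N)) ∣ (centralizer (B' : Set N)).index :=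
      orderOf_dvd_natCard _
    have h5 : Nat.gcd (p ^ k) (centralizer (B' : Set N)).index = 1 :=
      ((Nat.Prime.coprime_iff_not_dvd hp.out).2 h2).pow_left k
    exact Nat.eq_one_of_dvd_one (h5 ▸ Nat.dvd_gcd h3 h4)
  have := mem_centralizer_iff.1 hr' ⟨b, hle hb⟩ hb
  exact (congrArg Subtype.val this).symm

section Main

variable {M Δ : Type*} [Group M] [Finite M] [Finite Δ] [MulAction M Δ] [FaithfulSMul M Δ] [IsPretransitive M Δ]
  {p : ℕ} [hp : Fact p.Prime]

omit [Finite M] [Finite Δ] in
/-- a normal subgroup with a fixed point is trivial -/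
theorem eq_bot_of_fix (V : Subgroup M) [hVn : V.Normal] {b : Δ} (h : ∀ v ∈ V, v • b = b) : V = ⊥ := by
  rw [eq_bot_iff]
  intro v hv
  rw [mem_bot]
  apply FaithfulSMul.eq_of_smul_eq_smul (α := Δ)
  intro c
  obtain ⟨g, rfl⟩ := exists_smul_eq M b c
  have h1 := h (g⁻¹ * v * g) (by simpa using hVn.conj_mem v hv g⁻¹)
  rw [one_smul]
  calc v • g • b = g • (g⁻¹ * v * g) • b := by rw [smul_smul, smul_smul]; congr 1; group
    _ = g • b := by rw [h1]

/-- the `V`-orbits are separated by their kernels -/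
theorem block_claim (hΔ : Nat.card Δ = p * (p + 1)) (V : Subgroup M) [hVn : V.Normal] (hVab : IsMulCommutative V)
    (hV2 : Nat.card V = p ^ 2) (horb : ∀ b : Δ, (stabilizer V b).index = p) (hM : ¬ p ^ 4 ∣ Nat.card M)
    (hM3 : p ^ 3 ∣ Nat.card M) (hR : ∀ R : Subgroup M, Nat.card R = p ^ 3 → ¬ IsMulCommutative R) (b : Δ) {g : M}
    (hg : g ∈ normalizer ((V ⊓ stabilizer M b : Subgroup M) : Set M)) : ∃ v ∈ V, g • b = v • b := by
  have hp1 := hp.out.one_lt
  have hVcomm : ∀ x ∈ V, ∀ y ∈ V, x * y = y * x := fun x hx y hy =>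
    congrArg Subtype.val (hVab.is_comm.comm (⟨x, hx⟩ : V) ⟨y, hy⟩)
  have hVp : IsPGroup p V := IsPGroup.of_card hV2
  set B : Subgroup M := V ⊓ stabilizer M b with hB
  have hBmap : (stabilizer V b).map V.subtype = B := by
    ext x
    constructor
    · rintro ⟨y, hy, rfl⟩
      exact ⟨y.2, hy⟩
    · rintro ⟨hx, hxb⟩
      exact ⟨⟨x, hx⟩, hxb, rfl⟩
  have hBcard : Nat.card B = p := by
    have h1 := (stabilizer V b).card_mul_index
    rw [horb, hV2, pow_two] at h1
    rw [← hBmap, Subgroup.card_map_of_injective (Subgroup.subtype_injective V)]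
    exact Nat.eq_of_mul_eq_mul_right hp.out.pos h1
  set N := normalizer (B : Set M) with hN
  have hmemN : ∀ {g : M}, (∀ x ∈ B, g * x * g⁻¹ ∈ B) → g ∈ N := fun {g} h =>
    mem_norm h
  have hVN : V ≤ N := by
    intro v hv
    apply hmemN
    intro x hx
    rw [hVcomm v hv x hx.1, mul_inv_cancel_right]
    exact hx
  have hstN : stabilizer M b ≤ N := by
    intro h hh
    apply hmemN
    intro x hx
    exact ⟨hVn.conj_mem x hx.1 h, (stabilizer M b).mul_mem ((stabilizer M b).mul_mem hh hx.2) ((stabilizer M b).inv_mem hh)⟩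
  -- the orbit of `b` under `N`
  have h1 : (stabilizer N b).index * N.index = p * (p + 1) := by
    have h2 := Subgroup.relIndex_mul_index hstN
    have h3 : (stabilizer M b).relIndex N = (stabilizer N b).index := rfl
    rw [h3, index_stabilizer_of_transitive M b, hΔ] at h2
    exact h2
  have h2 : p ∣ (stabilizer N b).index := by
    rw [index_stabilizer]
    refine Cfsg.Agent.PermutationGroups.TwoTransitiveNormal.dvd_ncard_of_index_stabilizer_eq (G := V) (Set.toFinite _)
      ?_ (fun x _ => horb x)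
    rintro v _ ⟨n, rfl⟩
    exact ⟨⟨v, hVN v.2⟩ * n, mul_smul _ _ _⟩
  obtain ⟨m, hm⟩ := h2
  rw [hm, mul_assoc] at h1
  have h3 : m * N.index = p + 1 := Nat.eq_of_mul_eq_mul_left hp.out.pos h1
  by_cases hm1 : m = 1
  · -- the orbits coincide
    have h4 : (orbit V b).ncard = (orbit N b).ncard := by
      rw [← index_stabilizer, ← index_stabilizer, horb, hm, hm1, mul_one]
    have h5 : orbit V b = orbit N b := by
      apply Set.eq_of_subset_of_ncard_le _ h4.ge (Set.toFinite _)
      rintro _ ⟨v, rfl⟩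
      exact ⟨⟨v, hVN v.2⟩, rfl⟩
    have h6 : g • b ∈ orbit V b := by
      rw [h5]
      exact ⟨⟨g, hg⟩, rfl⟩
    obtain ⟨v, hv⟩ := h6
    exact ⟨v, v.2, hv.symm⟩
  · exfalso
    have hm0 : m ≠ 0 := by
      rintro rfl
      omega
    have h4 : N.index < p := by
      have : 2 * N.index ≤ p + 1 := by
        rw [← h3]
        exact Nat.mul_le_mul_right _ (by omega)
      omega
    obtain ⟨R⟩ : Nonempty (Sylow p M) := inferInstance
    have hRc : Nat.card R = p ^ 3 := by
      rw [R.card_eq_multiplicity]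
      congr 1
      have h5 := (hp.out.pow_dvd_iff_le_factorization Nat.card_pos.ne').1 hM3
      have h6 : ¬ 4 ≤ (Nat.card M).factorization p := fun h => hM ((hp.out.pow_dvd_iff_le_factorization Nat.card_pos.ne').2 h)
      omega
    have hRN : ∀ r ∈ (R : Subgroup M), ∀ g : M, g⁻¹ * r * g ∈ N := by
      intro r hr g
      have h5 : (stabilizer (R : Subgroup M) (g : M ⧸ N)).index ∣ p ^ 3 := by
        rw [← hRc]
        exact Subgroup.index_dvd_card _
      obtain ⟨i, -, hi⟩ := (Nat.dvd_prime_pow hp.out).1 h5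
      have h6 : (stabilizer (R : Subgroup M) (g : M ⧸ N)).index ≤ N.index := by
        rw [index_stabilizer, Subgroup.index_eq_card]
        exact (Set.ncard_le_ncard (Set.subset_univ _) Set.finite_univ).trans (Set.ncard_univ _).le
      have h7 : i = 0 := by
        by_contra hi0
        have : p ≤ p ^ i := Nat.le_self_pow hi0 p
        omega
      rw [h7, pow_zero, Subgroup.index_eq_one] at hi
      have h8 : (⟨r, hr⟩ : (R : Subgroup M)) • (g : M ⧸ N) = g := by
        have : (⟨r, hr⟩ : (R : Subgroup M)) ∈ stabilizer (R : Subgroup M) (g : M ⧸ N) := by rw [hi]; trivial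
        exact this
      have h9 : ((r * g : M) : M ⧸ N) = (g : M ⧸ N) := h8
      have h10 := QuotientGroup.eq.1 h9.symm
      rwa [← mul_assoc] at h10
    have hBne : B ≠ ⊥ := by
      intro h
      rw [h, Subgroup.card_bot] at hBcard
      omega
    obtain ⟨g, hgB⟩ : ∃ g : M, B.map (MulAut.conj g).toMonoidHom ≠ B := by
      by_contra hcon
      push Not at hcon
      have hBn : B.Normal := ⟨fun x hx g => by
        rw [← hcon g]
        exact ⟨x, hx, rfl⟩⟩
      exact hBne (eq_bot_of_fix (Δ := Δ) B (b := b) fun v hv => hv.2)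
    set B₁ := B.map (MulAut.conj g).toMonoidHom with hB₁
    have hB₁card : Nat.card B₁ = p := by
      rw [hB₁, Subgroup.card_map_of_injective (MulAut.conj g).injective, hBcard]
    have hB₁V : B₁ ≤ V := by
      rintro _ ⟨x, hx, rfl⟩
      exact hVn.conj_mem x hx.1 g
    have hc0 := cent_of_norm R.isPGroup' hBcard (fun r hr => by
      have := hRN r hr 1
      rwa [inv_one, one_mul, mul_one] at this)
    have hc1 := cent_of_norm R.isPGroup' hB₁card (fun r hr => by
      refine mem_norm ?_
      rintro _ ⟨x, hx, rfl⟩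
      refine ⟨(g⁻¹ * r * g) * x * (g⁻¹ * r * g)⁻¹, (Subgroup.mem_normalizer_iff.1 (hRN r hr g) x).1 hx, ?_⟩
      change g * ((g⁻¹ * r * g) * x * (g⁻¹ * r * g)⁻¹) * g⁻¹ = r * (g * x * g⁻¹) * r⁻¹
      group)
    have hsup : B ⊔ B₁ = V := by
      have hle : B ⊔ B₁ ≤ V := sup_le inf_le_left hB₁V
      apply Subgroup.eq_of_le_of_card_ge hle
      have h5 : Nat.card ↥(B ⊔ B₁) ∣ p ^ 2 := hV2 ▸ Subgroup.card_dvd_of_le hle
      obtain ⟨i, hi, hi'⟩ := (Nat.dvd_prime_pow hp.out).1 h5
      have h6 : i = 2 := by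
        by_contra hne
        have h7 : i ≤ 1 := by omega
        have h8 : Nat.card ↥(B ⊔ B₁) ≤ p := by
          rw [hi']
          exact (Nat.pow_le_pow_right hp.out.pos h7).trans (pow_one p).le
        have h9 : B = B ⊔ B₁ := Subgroup.eq_of_le_of_card_ge le_sup_left (by rw [hBcard]; exact h8)
        have h10 : B₁ = B := Subgroup.eq_of_le_of_card_ge (by rw [h9]; exact le_sup_right) (by rw [hBcard, hB₁card])
        exact hgB h10
      rw [hV2, hi', h6]
    have hVR : V ≤ (R : Subgroup M) := by
      have h5 : IsPGroup p ↥(V ⊔ (R : Subgroup M)) := hVp.to_sup_of_normal_left R.isPGroup'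
      have h6 := R.is_maximal' h5 le_sup_right
      rw [← h6]
      exact le_sup_left
    have hcent : V ≤ centralizer ((R : Subgroup M) : Set M) := by
      rw [← hsup]
      refine sup_le ?_ ?_
      · intro x hx
        rw [mem_centralizer_iff]
        intro r hr
        exact hc0 r hr x hx
      · intro x hx
        rw [mem_centralizer_iff]
        intro r hr
        exact hc1 r hr x hx
    have hVn' : (V.subgroupOf (R : Subgroup M)).Normal := inferInstance
    have hq : Nat.card ((R : Subgroup M) ⧸ V.subgroupOf (R : Subgroup M)) = p := by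
      have h5 := (V.subgroupOf (R : Subgroup M)).card_mul_index
      rw [Nat.card_congr (subgroupOfEquivOfLe hVR).toEquiv, hV2, Subgroup.index_eq_card] at h5
      have h6 : Nat.card (R : Subgroup M) = p ^ 2 * p := by rw [← pow_succ]; exact hRc
      rw [h6] at h5
      exact Nat.eq_of_mul_eq_mul_left (pow_pos hp.out.pos 2) h5
    have hcyc : IsCyclic ((R : Subgroup M) ⧸ V.subgroupOf (R : Subgroup M)) := isCyclic_of_prime_card hq
    refine hR R hRc ⟨⟨fun x y => ?_⟩⟩
    refine ((QuotientGroup.mk' (V.subgroupOf (R : Subgroup M))).isMulCommutative_of_isCyclic_of_ker_le_center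
      ?_).is_comm.comm x y
    rw [QuotientGroup.ker_mk']
    intro z hz
    rw [mem_center_iff]
    intro w
    exact Subtype.ext (mem_centralizer_iff.1 (hcent hz) w w.2)

/-- **the structure of the stabilizer** -/
theorem graph_main (hΔ : Nat.card Δ = p * (p + 1)) (V : Subgroup M) [hVn : V.Normal] (hVab : IsMulCommutative V)
    (hVp : IsPGroup p V) (hVc : ¬ IsCyclic V) (hM : ¬ p ^ 4 ∣ Nat.card M) (hM3 : p ^ 3 ∣ Nat.card M)
    (hR : ∀ R : Subgroup M, Nat.card R = p ^ 3 → ¬ IsMulCommutative R) :
    ∃ n, Nat.card M ∣ p ^ n * ((p ^ 2 - 1) * (p ^ 2 - p)) := by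
  have hp1 := hp.out.one_lt
  have hne : Nonempty Δ := by
    rw [← Finite.card_pos_iff, hΔ]
    exact Nat.mul_pos hp.out.pos (by omega)
  -- the order of `V`
  obtain ⟨k, hk⟩ := IsPGroup.iff_card.1 hVp
  have hVle : Nat.card V ∣ Nat.card M := Subgroup.card_subgroup_dvd_card V
  have hk4 : k < 4 := by
    by_contra hcon
    exact hM ((pow_dvd_pow p (by omega)).trans (hk ▸ hVle))
  have hk2 : k = 2 := by
    have h0 : k ≠ 0 := by
      rintro rfl
      apply hVc
      rw [pow_zero] at hk
      have : Subsingleton V := (Nat.card_eq_one_iff_unique.1 hk).1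
      infer_instance
    have h1 : k ≠ 1 := by
      rintro rfl
      rw [pow_one] at hk
      exact hVc (isCyclic_of_prime_card hk)
    have h3 : k ≠ 3 := by
      rintro rfl
      exact hR V hk hVab
    omega
  subst hk2
  -- the orbits of `V`
  have horb : ∀ b : Δ, (stabilizer V b).index = p := by
    intro b
    have h1 : (stabilizer V b).index ∣ p ^ 2 := hk ▸ Subgroup.index_dvd_card _
    obtain ⟨j, hj, hji⟩ := (Nat.dvd_prime_pow hp.out).1 h1
    have h2 : (stabilizer V b).index ∣ p * (p + 1) := by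
      rw [index_stabilizer, ← hΔ]
      exact (IsBlock.orbit_of_normal (G := M) (N := V) b).ncard_dvd_card (nonempty_orbit b)
    rw [hji] at h2 ⊢
    interval_cases j
    · exfalso
      have h3 : stabilizer V b = ⊤ := by rw [← Subgroup.index_eq_one, hji, pow_zero]
      have h4 := eq_bot_of_fix (Δ := Δ) V (b := b) (fun v hv => by
        have h5 : (⟨v, hv⟩ : V) ∈ stabilizer V b := by rw [h3]; trivial
        exact h5)
      rw [h4, Subgroup.card_bot] at hk
      have := Nat.one_lt_pow (two_ne_zero) hp1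
      omega
    · rw [pow_one]
    · exfalso
      rw [pow_two] at h2
      have h3 : p ∣ p + 1 := Nat.dvd_of_mul_dvd_mul_left hp.out.pos h2
      have h4 : p ∣ 1 := (Nat.dvd_add_right dvd_rfl).1 h3
      have := Nat.le_of_dvd one_pos h4
      omega
  -- the centralizer of `V` is a `p`-group
  have hC : IsPGroup p (centralizer (V : Set M)) := by
    intro c
    refine ⟨2, Subtype.ext ?_⟩
    change (c : M) ^ p ^ 2 = 1
    apply FaithfulSMul.eq_of_smul_eq_smul (α := Δ)
    intro b
    rw [one_smul]
    have hcV : ∀ v ∈ V, (c : M) * v = v * c := fun v hv => (mem_centralizer_iff.1 c.2 v hv).symm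
    obtain ⟨v, hv, hcb⟩ := block_claim hΔ V hVab hk horb hM hM3 hR b (g := (c : M)) (by
      refine mem_norm fun x hx => ?_
      rw [hcV x hx.1, mul_inv_cancel_right]
      exact hx)
    have h1 : ∀ n : ℕ, (c : M) ^ n • b = v ^ n • b := by
      intro n
      induction n with
      | zero => simp
      | succ n ih =>
        have h2 : (c : M) * v ^ n = v ^ n * c := hcV _ (pow_mem hv n)
        rw [pow_succ', mul_smul, ih, smul_smul, h2, mul_smul, hcb, smul_smul, ← pow_succ]
    rw [h1]
    have h2 : v ^ p ^ 2 = 1 := by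
      have h3 : (⟨v, hv⟩ : V) ^ Nat.card V = 1 := pow_card_eq_one'
      rw [hk] at h3
      exact congrArg (fun x : V => (x : M)) h3
    rw [h2, one_smul]
  obtain ⟨n, hn⟩ := IsPGroup.iff_card.1 hC
  refine ⟨n, ?_⟩
  rw [← (centralizer (V : Set M)).card_mul_index, hn]
  exact Nat.mul_dvd_mul_left _ ((index_centralizer_dvd V).trans
    (Cfsg.Agent.SmallSimple.BurnsideNC.card_mulAut_dvd_of_card_eq_sq hk))

end Main

end Cfsg.Agent.H354.PP
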