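import Cfsg.Agent.H354.PP.Num
import Cfsg.Agent.H354.PP.Geo

/-!
# S3414 [PSLPSL]: both types are of `PSL` type: impossible (helper354)
-/

set_option autoImplicit false
set_option maxRecDepth 100000

namespace Cfsg.Agent.H354.PP

open Subgroup Cfsg.Agent.H873.Tits

universe u v

section

variable {G : Type u} [Group G] [Finite G] {V : Type v} [Finite V] [MulAction G V] {P : Pol G V}

/-- the divisibility form of the inequality -/
theorem dvd_of_ineq (F : Facts P) {p : ℕ} (hA : CaseA P p) {x y z w : V} (hxy : P.adj x y) (hxz : P.adj x z)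
    (hyz : y ≠ z) (hyw : P.adj y w) (hxw : x ≠ w) {A B : ℕ} (hTx : P.T2 x y z ∣ A) (hTy : P.T2 y x w ∣ B)
    (hA0 : A ≠ 0) (hB0 : B ≠ 0) {r : ℕ} (hr : r.Prime) (hrp : r ≠ p) {a : ℕ}
    (ha : r ^ a ∣ P.q (P.tp x) * P.q (P.tp y)) : r ^ (a * (P.n / 2 - 1)) ∣ A * B := by
  obtain ⟨x', hx'⟩ := F.exists_opp x
  have h1 := main_ineq F hA hxy hyw hxw hx' hr hrp
  have h2 := factorization_idx_le F hx' hxy hxz hyz r
  have h3 := fact_le_of_dvd (r := r) hA0 hTx
  have h4 := fact_le_of_dvd (r := r) hB0 hTy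
  have hs0 : P.q (P.tp x) ≠ 0 := by have := P.two_le (P.tp x); omega
  have ht0 : P.q (P.tp y) ≠ 0 := by have := P.two_le (P.tp y); omega
  rw [hr.pow_dvd_iff_le_factorization (mul_ne_zero hs0 ht0), Nat.factorization_mul hs0 ht0, Finsupp.add_apply] at ha
  rw [hr.pow_dvd_iff_le_factorization (mul_ne_zero hA0 hB0), Nat.factorization_mul hA0 hB0, Finsupp.add_apply]
  have h5 : a * (P.n / 2 - 1) ≤ (P.n / 2 - 1) * ((P.q (P.tp x)).factorization r + (P.q (P.tp y)).factorization r) := by
    rw [mul_comm]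
    exact Nat.mul_le_mul_left _ ha
  omega

omit [Finite G] [Finite V] in
theorem num_four (N : Num P) (h : P.n = 4) (b : Bool) :
    (P.q b + P.q (!b)) ∣ 2 * P.q b * P.q (!b) * (1 + P.q b) * (1 + P.q (!b)) := by
  have h1 := N.fh4 h
  cases b
  · rw [Bool.not_false, add_comm (P.q false)]
    have h2 : 2 * P.q false * P.q true * (1 + P.q false) * (1 + P.q true) =
        2 * P.q true * P.q false * (1 + P.q true) * (1 + P.q false) := by ring
    rw [h2]
    exact h1
  · exact h1

omit [Finite G] [Finite V] in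
theorem num_six (N : Num P) (h : P.n = 6) (b : Bool) : ∃ g, P.q b * P.q (!b) = g ^ 2 := by
  obtain ⟨g, h1, -⟩ := N.fh6 h
  refine ⟨g, ?_⟩
  cases b
  · rw [Bool.not_false, mul_comm, h1]
  · exact h1

omit [Finite G] [Finite V] in
theorem num_eight (N : Num P) (h : P.n = 8) (b : Bool) : ∃ g, 2 * P.q b * P.q (!b) = g ^ 2 := by
  obtain ⟨g, h1, -⟩ := N.fh8 h
  refine ⟨g, ?_⟩
  cases b
  · rw [Bool.not_false, ← h1]; ring
  · exact h1

/-- **the numerical check** -/
theorem false_of_chk (F : Facts P) (N : Num P) (hA : CaseA P 2) {x y z w : V} (hxy : P.adj x y) (hxz : P.adj x z)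
    (hyz : y ≠ z) (hyw : P.adj y w) (hxw : x ≠ w) {A B : ℕ} (hTx : P.T2 x y z ∣ A) (hTy : P.T2 y x w ∣ B)
    (hA0 : A ≠ 0) (hB0 : B ≠ 0) (h : chk P.n (P.q (P.tp x)) (P.q (P.tp y)) A B = true) : False := by
  have hty : P.q (!P.tp x) = P.q (P.tp y) := by rw [← P.tp_adj hxy]
  rw [chk, Bool.or_eq_true, Bool.or_eq_true, Bool.or_eq_true] at h
  rcases h with ((h | h) | h) | h
  · rw [List.any_eq_true] at h
    obtain ⟨r, hr, h⟩ := h
    rw [List.any_eq_true] at h
    obtain ⟨a, -, h⟩ := h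
    simp only [Bool.and_eq_true, decide_eq_true_eq, Bool.not_eq_true', decide_eq_false_iff_not] at h
    have hr' : r.Prime ∧ r ≠ 2 := by
      simp only [List.mem_cons, List.not_mem_nil, or_false] at hr
      rcases hr with rfl | rfl | rfl | rfl <;> norm_num
    exact h.2 (dvd_of_ineq F hA hxy hxz hyz hyw hxw hTx hTy hA0 hB0 hr'.1 hr'.2 h.1)
  · simp only [Bool.and_eq_true, decide_eq_true_eq, Bool.not_eq_true', decide_eq_false_iff_not] at h
    have h1 := num_four N h.1 (P.tp x)
    rw [hty] at h1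
    exact h.2 h1
  · simp only [Bool.and_eq_true, decide_eq_true_eq] at h
    obtain ⟨g, hg⟩ := num_six N h.1 (P.tp x)
    rw [hty] at hg
    apply h.2
    rw [hg, Nat.sqrt_eq']
  · simp only [Bool.and_eq_true, decide_eq_true_eq] at h
    obtain ⟨g, hg⟩ := num_eight N h.1 (P.tp x)
    rw [hty] at hg
    apply h.2
    rw [hg, Nat.sqrt_eq']

theorem pp_le (F : Facts P) (N : Num P) {p : ℕ} (hA : CaseA P p) {x y : V} (hxy : P.adj x y) {d f d' f' : ℕ}
    (hx : PSLType (P.L x) p d f) (hy : PSLType (P.L y) p d' f') (hle : f' * (d' - 1) ≤ f * (d - 1)) : False := by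
  obtain ⟨z, hxz, hyz⟩ := exists_other (P := P) (x := x) (y := y)
  obtain ⟨w, hyw, hxw⟩ := exists_other (P := P) (x := y) (y := x)
  have hyx := P.symm hxy
  have hp := hA.prime
  have hd := hx.1
  have hf := hx.2.1
  have hcx := hx.2.2.2.1
  have hd' := hy.1
  have hf' := hy.2.1
  have hcy := hy.2.2.2.1
  have hΩx : Nat.card {w : V // P.adj x w} = P.q (P.tp x) + 1 := P.card_nb x
  have hΩy : Nat.card {w : V // P.adj y w} = P.q (P.tp y) + 1 := P.card_nb y
  rw [hΩx] at hcx
  rw [hΩy] at hcy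
  have hsx := card_rel hp hf hd hcx
  have hsy := card_rel hp hf' hd' hcy
  have hTx : P.T2 x y z ∣ TB (p ^ f) d f := by
    rw [T2_eq hxy hxz]
    exact T_dvd (twoTr_L F x) hΩx (fun h => hyz (congrArg Subtype.val h)) hx
  have hTy : P.T2 y x w ∣ TB (p ^ f') d' f' := by
    rw [T2_eq hyx hyw]
    exact T_dvd (twoTr_L F y) hΩy (fun h => hxw (congrArg Subtype.val h)) hy
  have hA0 := TB_ne_zero (d := d) hp hf
  have hB0 := TB_ne_zero (d := d') hp hf'
  have hn1 : 1 ≤ P.n / 2 - 1 := by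
    have := P.hn
    omega
  have h2le : f * 2 ≤ f * (d - 1) := Nat.mul_le_mul_left _ (by omega)
  obtain ⟨x', hx'⟩ := F.exists_opp x
  by_cases hM : f * (d - 1) = 2 ∧ ∃ k, p + 1 = 2 ^ k
  · -- Mersenne primes
    obtain ⟨he, k, hk⟩ := hM
    have h2le' : f' * 2 ≤ f' * (d' - 1) := Nat.mul_le_mul_left _ (by omega)
    obtain rfl : f = 1 := by omega
    obtain rfl : f' = 1 := by omega
    obtain rfl : d = 3 := by omega
    obtain rfl : d' = 3 := by omega
    have hp2 : p ≠ 2 := by
      rintro rfl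
      have h3 : k ≠ 0 := by
        rintro rfl
        norm_num at hk
      have h4 : 2 ∣ 2 ^ k := dvd_pow_self 2 h3
      omega
    have hp3 : 3 ≤ p := by
      have := hp.two_le
      omega
    have hk2 : 2 ≤ k := by
      by_contra hcon
      have : 2 ^ k ≤ 2 ^ 1 := Nat.pow_le_pow_right (by norm_num) (by omega)
      omega
    have hs := s_eq hp hcx
    have ht := s_eq hp hcy
    obtain ⟨Q, hQ⟩ := lq F hA hxy hxz hyz
    obtain ⟨Q', hQ'⟩ := lq F hA hyx hyw hxw
    have h1 := T_two hQ hx hp3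
    have h2 := T_two hQ' hy hp3
    rw [← T2_eq hxy hxz] at h1
    rw [← T2_eq hyx hyw] at h2
    have h3 : (p - 1).factorization 2 ≤ 1 := by
      by_contra hcon
      have h4 : 2 ^ 2 ∣ p - 1 := (Nat.prime_two.pow_dvd_iff_le_factorization (by omega)).2 (by omega)
      have h5 : 2 ^ 2 ∣ 2 ^ k := pow_dvd_pow 2 hk2
      omega
    have h4 := main_ineq F hA hxy hyw hxw hx' Nat.prime_two (Ne.symm hp2)
    have h5 := factorization_idx_le F hx' hxy hxz hyz 2
    have h6 : (p * (p + 1)).factorization 2 = k := by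
      rw [Nat.factorization_mul (by omega) (by omega), hk, Finsupp.add_apply, Nat.Prime.factorization_pow Nat.prime_two,
        Finsupp.single_eq_same, Nat.factorization_eq_zero_of_not_dvd, zero_add]
      intro h7
      exact hp2 ((Nat.prime_dvd_prime_iff_eq Nat.prime_two hp).1 h7).symm
    rw [hs, ht, h6] at h4
    have h7 : k + k ≤ (P.n / 2 - 1) * (k + k) := Nat.le_mul_of_pos_left _ (by omega)
    have hk' : k = 2 := by omega
    subst hk'
    obtain rfl : p = 3 := by omega
    refine no_idx13 (twoTr_L F x) (by rw [hΩx, hs]) (fun h => hyz (congrArg Subtype.val h)) hx L'_le_L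
      (twoTr_L' F hx') (a := ⟨y, hxy⟩) (b := ⟨z, hxz⟩) ?_ ?_
    · rw [← T2_eq hxy hxz]
      omega
    · change 2 ≤ (P.idx x x').factorization 2
      omega
  by_cases h6 : p = 2 ∧ f * (d - 1) = 6
  · obtain ⟨rfl, he⟩ := h6
    have hf3 : f ≤ 3 := by omega
    have hd7 : d ≤ 7 := by
      have : 1 * (d - 1) ≤ f * (d - 1) := Nat.mul_le_mul_right _ hf
      omega
    have hf3' : f' ≤ 3 := by
      have h2le' : f' * 2 ≤ f' * (d' - 1) := Nat.mul_le_mul_left _ (by omega)
      omega
    have hd7' : d' ≤ 7 := by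
      have : 1 * (d' - 1) ≤ f' * (d' - 1) := Nat.mul_le_mul_right _ hf'
      omega
    have hq : 0 < 2 ^ f - 1 := by
      have : 2 ^ 1 ≤ 2 ^ f := Nat.pow_le_pow_right (by norm_num) hf
      omega
    have hq' : 0 < 2 ^ f' - 1 := by
      have : 2 ^ 1 ≤ 2 ^ f' := Nat.pow_le_pow_right (by norm_num) hf'
      omega
    have hs : P.q (P.tp x) = S2 d f := by rw [S2, ← hsx, Nat.mul_div_cancel _ hq]
    have ht : P.q (P.tp y) = S2 d' f' := by rw [S2, ← hsy, Nat.mul_div_cancel _ hq']
    have hn : P.n ∈ ([4, 6, 8] : List ℕ) := by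
      rcases P.hn with h | h | h <;> rw [h] <;> simp
    rcases small_all d (Finset.mem_Icc.2 ⟨hd, hd7⟩) f (Finset.mem_Icc.2 ⟨hf, hf3⟩) d' (Finset.mem_Icc.2 ⟨hd', hd7'⟩) f'
      (Finset.mem_Icc.2 ⟨hf', hf3'⟩) he (hle.trans he.le) P.n hn with h | ⟨rfl, rfl, rfl, rfl, hn4⟩
    · rw [← hs, ← ht] at h
      exact false_of_chk F N hA hxy hxz hyz hyw hxw hTx hTy hA0 hB0 h
    · have e1 : S2 7 1 = 126 := by decide +kernel
      have e2 : TB (2 ^ 1) 7 1 = 2 ^ 21 * (3 ^ 2 * 5 * 7 * 31) := by decide +kernel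
      rw [e1] at hs ht
      have hn2 : P.n / 2 - 1 = 1 := by omega
      have h7 := main_ineq F hA hxy hyw hxw hx' (show Nat.Prime 7 by norm_num) (by norm_num)
      have h3 := main_ineq F hA hxy hyw hxw hx' Nat.prime_three (by norm_num)
      rw [hs, ht, hn2, one_mul] at h7 h3
      have h7a : 1 ≤ (126 : ℕ).factorization 7 :=
        (Nat.Prime.pow_dvd_iff_le_factorization (by norm_num) (by norm_num)).1 (by norm_num)
      have h3a : 2 ≤ (126 : ℕ).factorization 3 :=
        (Nat.Prime.pow_dvd_iff_le_factorization (by norm_num) (by norm_num)).1 (by norm_num)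
      have h7b : (P.T2 y x w).factorization 7 ≤ 1 := by
        by_contra hcon
        have h8 : 7 ^ 2 ∣ P.T2 y x w :=
          (Nat.Prime.pow_dvd_iff_le_factorization (by norm_num) T2_ne_zero).2 (by omega)
        have h9 := h8.trans hTy
        rw [e2] at h9
        revert h9
        decide +kernel
      have h3b : (P.T2 y x w).factorization 3 ≤ 2 := by
        by_contra hcon
        have h8 : 3 ^ 3 ∣ P.T2 y x w :=
          (Nat.Prime.pow_dvd_iff_le_factorization (by norm_num) T2_ne_zero).2 (by omega)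
        have h9 := h8.trans hTy
        rw [e2] at h9
        revert h9
        decide +kernel
      refine Cfsg.Agent.H270.Tits.no_idx (P.L x) (P.L' x x') hx L'_le_L (twoTr_L' F hx') ?_ ?_
      · change 2 ≤ (P.idx x x').factorization 3
        omega
      · change 1 ≤ (P.idx x x').factorization 7
        omega
  -- a primitive prime divisor
  obtain ⟨r, hr, he, her, hrp⟩ := Cfsg.Agent.Lib.Zsigmondy.exists_primitive (a := p) (n := f * (d - 1)) hp.two_le
    (by omega) (fun h1 h2 => hM ⟨h1, h2⟩) h6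
  have hrp' : r ≠ p := fun h => hrp (h ▸ dvd_rfl)
  have h1 := main_ineq F hA hxy hyw hxw hx' hr hrp'
  have h2 := factorization_idx_le F hx' hxy hxz hyz r
  have h3 : (P.T2 x y z).factorization r = 0 :=
    Nat.factorization_eq_zero_of_not_dvd fun h => not_dvd_TB hr he her hrp hd hf le_rfl (h.trans hTx)
  have h4 : (P.T2 y x w).factorization r = 0 :=
    Nat.factorization_eq_zero_of_not_dvd fun h => not_dvd_TB hr he her hrp hd' hf' hle (h.trans hTy)
  have hs0 : P.q (P.tp x) ≠ 0 := by have := P.two_le (P.tp x); omega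
  have h5 : 1 ≤ (P.q (P.tp x)).factorization r := by
    rw [← hr.pow_dvd_iff_le_factorization hs0, pow_one]
    exact dvd_s hr he hd hf hsx
  have h7 := Nat.le_mul_of_pos_left ((P.q (P.tp x)).factorization r + (P.q (P.tp y)).factorization r)
    (show 0 < P.n / 2 - 1 by omega)
  omega

end

/-- **both types are of `PSL` type** -/
theorem st_pslpsl : StPSLPSL.{u, v} := by
  intro G _ _ V _ _ P F N p hA x y hxy d f d' f' hx hy
  rcases le_total (f' * (d' - 1)) (f * (d - 1)) with h | h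
  · exact pp_le F N hA hxy hx hy h
  · exact pp_le F N hA (P.symm hxy) hy hx h

end Cfsg.Agent.H354.PP
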