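import Mathlib

/-!
# S3414 [PSLPSL]: the Sylow `p`-subgroups of `PSL_3(p)` are not abelian (helper354)
-/

set_option autoImplicit false

namespace Cfsg.Agent.H354.PP

open Subgroup Matrix

variable {F : Type*} [Field F]

def xx : SpecialLinearGroup (Fin 3) F := ⟨!![1, 1, 0; 0, 1, 0; 0, 0, 1], by simp [Matrix.det_fin_three]⟩
def yy : SpecialLinearGroup (Fin 3) F := ⟨!![1, 0, 0; 0, 1, 1; 0, 0, 1], by simp [Matrix.det_fin_three]⟩
def zz : SpecialLinearGroup (Fin 3) F := ⟨!![1, 0, 1; 0, 1, 0; 0, 0, 1], by simp [Matrix.det_fin_three]⟩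
def ww : SpecialLinearGroup (Fin 3) F := ⟨!![1, 0, 0; 0, 1, 0; 1, 0, 1], by simp [Matrix.det_fin_three]⟩

theorem xy_eq : (xx : SpecialLinearGroup (Fin 3) F) * yy = yy * xx * zz := by
  apply Subtype.ext
  change (!![1, 1, 0; 0, 1, 0; 0, 0, 1] : Matrix (Fin 3) (Fin 3) F) * !![1, 0, 0; 0, 1, 1; 0, 0, 1] =
    !![1, 0, 0; 0, 1, 1; 0, 0, 1] * !![1, 1, 0; 0, 1, 0; 0, 0, 1] * !![1, 0, 1; 0, 1, 0; 0, 0, 1]
  ext i j
  fin_cases i <;> fin_cases j <;> simp [Matrix.mul_apply, Fin.sum_univ_three]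

theorem zz_nmem : (zz : SpecialLinearGroup (Fin 3) F) ∉ center (SpecialLinearGroup (Fin 3) F) := by
  intro h
  have h1 := mem_center_iff.1 h ww
  have h3 : (!![1, 0, 0; 0, 1, 0; 1, 0, 1] : Matrix (Fin 3) (Fin 3) F) * !![1, 0, 1; 0, 1, 0; 0, 0, 1] =
    !![1, 0, 1; 0, 1, 0; 0, 0, 1] * !![1, 0, 0; 0, 1, 0; 1, 0, 1] := congrArg Subtype.val h1
  have h2 := congrFun (congrFun h3 0) 0
  simp [Matrix.mul_apply, Fin.sum_univ_three] at h2

/-- unitriangular matrices -/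
def uni (F : Type*) [Field F] : Submonoid (SpecialLinearGroup (Fin 3) F) where
  carrier := {g | g.1 1 0 = 0 ∧ g.1 2 0 = 0 ∧ g.1 2 1 = 0 ∧ g.1 0 0 = 1 ∧ g.1 1 1 = 1 ∧ g.1 2 2 = 1}
  one_mem' := by simp
  mul_mem' := by
    rintro a b ⟨a1, a2, a3, a4, a5, a6⟩ ⟨b1, b2, b3, b4, b5, b6⟩
    change (a.1 * b.1) 1 0 = 0 ∧ (a.1 * b.1) 2 0 = 0 ∧ (a.1 * b.1) 2 1 = 0 ∧ (a.1 * b.1) 0 0 = 1 ∧
      (a.1 * b.1) 1 1 = 1 ∧ (a.1 * b.1) 2 2 = 1
    simp only [Matrix.mul_apply, Fin.sum_univ_three, a1, a2, a3, a4, a5, a6, b1, b2, b3, b4, b5, b6]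
    simp

theorem uni_pow {p : ℕ} [Fact p.Prime] [CharP F p] (hp : 3 ≤ p) {g : SpecialLinearGroup (Fin 3) F} (hg : g ∈ uni F) :
    g ^ p = 1 := by
  obtain ⟨h1, h2, h3, h4, h5, h6⟩ := hg
  have h7 : (g.1 - 1) ^ 3 = 0 := by
    ext i j
    rw [pow_succ, pow_two, Matrix.mul_apply]
    simp only [Matrix.mul_apply, Fin.sum_univ_three]
    fin_cases i <;> fin_cases j <;> simp [h1, h2, h3, h4, h5, h6]
  have h8 : (g.1 - 1) ^ p = 0 := by
    obtain ⟨k, rfl⟩ := Nat.exists_eq_add_of_le hp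
    rw [pow_add, h7, zero_mul]
  have h9 : g.1 ^ p = 1 := by
    rw [sub_pow_char_of_commute p (Commute.one_right _), one_pow, sub_eq_zero] at h8
    exact h8
  apply Subtype.ext
  exact (Matrix.SpecialLinearGroup.coe_pow g p).trans h9

/-- the unitriangular group -/
def uniG (F : Type*) [Field F] {p : ℕ} [Fact p.Prime] [CharP F p] (hp : 3 ≤ p) :
    Subgroup (SpecialLinearGroup (Fin 3) F) :=
  { uni F with
    inv_mem' := by
      intro g hg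
      have h1 : g⁻¹ = g ^ (p - 1) := by
        rw [inv_eq_iff_mul_eq_one, ← pow_succ', Nat.sub_add_cancel (by omega)]
        exact uni_pow hp hg
      change g⁻¹ ∈ uni F
      rw [h1]
      exact pow_mem (show g ∈ uni F from hg) _ }

theorem xx_mem {p : ℕ} [Fact p.Prime] [CharP F p] (hp : 3 ≤ p) : (xx : SpecialLinearGroup (Fin 3) F) ∈ uniG F hp := by
  change xx ∈ uni F
  refine ⟨?_, ?_, ?_, ?_, ?_, ?_⟩ <;> simp [xx]

theorem yy_mem {p : ℕ} [Fact p.Prime] [CharP F p] (hp : 3 ≤ p) : (yy : SpecialLinearGroup (Fin 3) F) ∈ uniG F hp := by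
  change yy ∈ uni F
  refine ⟨?_, ?_, ?_, ?_, ?_, ?_⟩ <;> simp [yy]

/-- **a non-abelian `p`-subgroup** -/
theorem exists_nonab (F : Type*) [Field F] {p : ℕ} [hp : Fact p.Prime] [CharP F p] (h3 : 3 ≤ p) :
    ∃ U : Subgroup (ProjectiveSpecialLinearGroup (Fin 3) F), IsPGroup p U ∧ ¬ IsMulCommutative U := by
  refine ⟨(uniG F h3).map (QuotientGroup.mk' (center (SpecialLinearGroup (Fin 3) F))), ?_, ?_⟩
  · apply IsPGroup.map
    intro g
    refine ⟨1, Subtype.ext ?_⟩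
    rw [pow_one]
    exact uni_pow h3 g.2
  · intro hc
    have h1 := hc.is_comm.comm ⟨_, mem_map_of_mem _ (xx_mem (F := F) h3)⟩ ⟨_, mem_map_of_mem _ (yy_mem (F := F) h3)⟩
    have h2 : ((xx * yy : SpecialLinearGroup (Fin 3) F) : SpecialLinearGroup (Fin 3) F ⧸
        center (SpecialLinearGroup (Fin 3) F)) = ((yy * xx : SpecialLinearGroup (Fin 3) F) : _) :=
      congrArg Subtype.val h1
    have h3 := QuotientGroup.eq.1 h2.symm
    rw [xy_eq, inv_mul_cancel_left] at h3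
    exact zz_nmem h3

end Cfsg.Agent.H354.PP
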