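import Cfsg.Agent.H354.PP.Ord
import Cfsg.Agent.H354.PP.Graph
import Cfsg.Agent.H354.PP.Uni
import Cfsg.Agent.S3256

/-!
# S3414 [PSLPSL]: `PSL_3(p)` (helper354)
-/

set_option autoImplicit false

namespace Cfsg.Agent.H354.PP

open Subgroup Cfsg.Agent.H873.Tits MulAction

universe u v

variable {Ω : Type v} [Finite Ω]

/-- a prime power divisible by `p` and coprime to `p` factors -/
theorem pp_false {p ℓ n : ℕ} (hp : p.Prime) (hℓ : ℓ.Prime) (h1 : p ∣ ℓ ^ n)
    (h2 : ∃ r, r.Prime ∧ r ∣ p + 1 ∧ r ∣ ℓ ^ n) : False := by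
  obtain ⟨r, hr, hr1, hr2⟩ := h2
  have h3 := (Nat.prime_dvd_prime_iff_eq hp hℓ).1 (hp.dvd_of_dvd_pow h1)
  have h4 := (Nat.prime_dvd_prime_iff_eq hr hℓ).1 (hr.dvd_of_dvd_pow hr2)
  rw [h4, ← h3] at hr1
  have h5 : p ∣ 1 := (Nat.dvd_add_right dvd_rfl).1 hr1
  have := Nat.le_of_dvd one_pos h5
  have := hp.two_le
  omega

theorem s_eq {p s : ℕ} (hp : p.Prime) (h : (s + 1) * (p ^ 1 - 1) = (p ^ 1) ^ 3 - 1) : s = p * (p + 1) := by
  rw [pow_one] at h
  have hp2 := hp.two_le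
  obtain ⟨k, rfl⟩ : ∃ k, p = k + 2 := ⟨p - 2, by omega⟩
  rw [show k + 2 - 1 = k + 1 by omega] at h
  have h2 : (k + 2) ^ 3 - 1 = ((k + 2) * (k + 2 + 1) + 1) * (k + 1) := by
    have : (k + 2) ^ 3 = ((k + 2) * (k + 2 + 1) + 1) * (k + 1) + 1 := by ring
    omega
  rw [h2] at h
  have h3 := Nat.eq_of_mul_eq_mul_right (by omega) h
  omega

theorem card_X_gt {p X s g : ℕ} (hp : 3 ≤ p) (hs : (s + 1) * (p - 1) = p ^ 3 - 1) (hg : g ≤ 3)
    (h : g * ((p - 1) * X) = WW p 3) : s + 1 < X := by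
  rw [WW] at h
  simp only [Fin.prod_univ_succ, Fin.prod_univ_zero] at h
  simp only [Fin.val_zero, pow_zero, Fin.val_succ, zero_add, pow_one, mul_one] at h
  have h1 : p ^ 3 - p ≥ 24 := by
    obtain ⟨k, rfl⟩ := Nat.exists_eq_add_of_le hp
    have : (3 + k) ^ 3 = 27 + 27 * k + 9 * k ^ 2 + k ^ 3 := by ring
    omega
  have h2 : p ^ 3 - p ^ (1 + 1) ≥ 1 := by
    have := Nat.pow_lt_pow_right (show 1 < p by omega) (show 1 + 1 < 3 by norm_num)
    omega
  by_contra hcon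
  push Not at hcon
  have h3 : g * ((p - 1) * X) ≤ 3 * ((p - 1) * (s + 1)) :=
    Nat.mul_le_mul hg (Nat.mul_le_mul_left _ hcon)
  rw [h, mul_comm (p - 1), hs] at h3
  have h4 : 0 < p ^ 3 - 1 := by
    rw [← hs]
    exact Nat.mul_pos (by omega) (by omega)
  have h5 : (p ^ 3 - 1) * (24 * 1) ≤ (p ^ 3 - 1) * ((p ^ 3 - p) * (p ^ 3 - p ^ (1 + 1))) :=
    Nat.mul_le_mul_left _ (Nat.mul_le_mul h1 h2)
  omega

/-- **a normal subgroup of the point stabilizer is not cyclic** -/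
theorem not_cyclic {L : Subgroup (Equiv.Perm Ω)} {p s : ℕ} (h2 : TwoTr L) (hΩ : Nat.card Ω = s + 1) {a b : Ω}
    (hab : a ≠ b) (h : PSLType L p 3 1) (hp3 : 3 ≤ p) (V : Subgroup L) (hVle : V ≤ stabilizer L a)
    (hn : (V.subgroupOf (stabilizer L a)).Normal) (hV1 : V ≠ ⊥) (hc : IsCyclic V) : False := by
  classical
  have _ := Fintype.ofFinite Ω
  have hnt : Nontrivial Ω := ⟨a, b, hab⟩
  obtain ⟨-, X, hXL, hXc, hmin, -⟩ := psl_data h
  have hp := h.2.2.1
  have hs0 := h.2.2.2.1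
  rw [hΩ] at hs0
  have hs := s_eq hp hs0
  rw [pow_one] at hXc hs0
  have hX : s + 1 < Nat.card X := card_X_gt hp3 hs0 (Nat.le_of_dvd (by norm_num) (Nat.gcd_dvd_left _ _)) hXc
  have h2' : IsMultiplyPretransitive L Ω 2 := by
    rw [is_two_pretransitive_iff]
    intro a b c d hab hcd
    obtain ⟨g, hg, h1, h2⟩ := h2 a b c d hab hcd
    exact ⟨⟨g, hg⟩, h1, h2⟩
  obtain ⟨r, hr, hr1⟩ := Nat.exists_prime_and_dvd (show p + 1 ≠ 1 by omega)
  have hps : p ∣ s := hs ▸ Dvd.intro _ rfl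
  have hrs : r ∣ s := hs ▸ (hr1.trans (Dvd.intro_left _ rfl))
  have key : ∀ ℓ n : ℕ, ℓ.Prime → p ∣ ℓ ^ n → r ∣ ℓ ^ n → False := fun ℓ n hℓ h1 h3 =>
    pp_false hp hℓ h1 ⟨r, hr, hr1, h3⟩
  rcases S3256.result h2' a V hVle hn hV1 hc with ⟨N, hN, htr, hst⟩ | ⟨F, i1, i2, hF, -⟩ | ⟨F, i1, i2, q, hF, hq, -⟩ |
    ⟨h28, -⟩
  · -- a regular normal subgroup
    have h3 : Nat.card N = s + 1 := by
      have h4 := (stabilizer N a).card_mul_index
      rw [hst a, Subgroup.card_bot, one_mul, ← hst a, index_stabilizer_of_transitive, hΩ] at h4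
      exact h4.symm
    have hNne : N.map L.subtype ≠ ⊥ := by
      intro h4
      have h5 := (map_eq_bot_iff_of_injective _ (subtype_injective L)).1 h4
      rw [h5, Subgroup.card_bot] at h3
      have : 0 < s := by rw [hs]; positivity
      omega
    have h4 := hmin (N.map L.subtype) (map_subtype_le _) (by
      rw [← comap_subtype, comap_map_eq_self_of_injective (subtype_injective L)]
      exact hN) hNne
    have h5 := Subgroup.card_le_of_le h4
    rw [Subgroup.card_map_of_injective (subtype_injective L), h3] at h5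
    omega
  · rw [← Nat.card_eq_fintype_card, hΩ] at hF
    obtain ⟨ℓ, hℓ⟩ := CharP.exists F
    obtain ⟨n, hℓp, hn⟩ := FiniteField.card F ℓ
    have hs' : s = ℓ ^ (n : ℕ) := by omega
    exact key ℓ n hℓp (hs' ▸ hps) (hs' ▸ hrs)
  · rw [← Nat.card_eq_fintype_card, hΩ] at hq
    obtain ⟨ℓ, hℓ⟩ := CharP.exists F
    obtain ⟨n, hℓp, hn⟩ := FiniteField.card F ℓ
    have hs' : s = q ^ 3 := by omega
    have h3 : p ∣ q := hp.dvd_of_dvd_pow (hs' ▸ hps)
    have h4 : r ∣ q := hr.dvd_of_dvd_pow (hs' ▸ hrs)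
    refine key ℓ n hℓp ?_ ?_
    · rw [← hn, hF]
      exact h3.trans (dvd_pow_self q two_ne_zero)
    · rw [← hn, hF]
      exact h4.trans (dvd_pow_self q two_ne_zero)
  · rw [← Nat.card_eq_fintype_card, hΩ, hs] at h28
    have : p < 6 := by nlinarith
    interval_cases p <;> omega

theorem WW_three {p : ℕ} (hp : 2 ≤ p) : WW p 3 = p ^ 3 * ((p ^ 3 - 1) * ((p ^ 2 - 1) * (p - 1))) := by
  rw [WW]
  simp only [Fin.prod_univ_succ, Fin.prod_univ_zero]
  simp only [Fin.val_zero, pow_zero, Fin.val_succ, zero_add, pow_one, mul_one]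
  have h1 : p ^ 3 - p = p * (p ^ 2 - 1) := by rw [Nat.mul_sub, mul_one, ← pow_succ']
  have h2 : p ^ 3 - p ^ (1 + 1) = p ^ 2 * (p - 1) := by rw [Nat.mul_sub, mul_one, ← pow_succ]
  rw [h1, h2]
  ring

theorem not_dvd_pow_sub {p k : ℕ} (hp : p.Prime) (hk : 1 ≤ k) : ¬ p ∣ p ^ k - 1 := by
  intro h
  have h1 : p ∣ p ^ k := dvd_pow_self p (by omega)
  have h2 : 1 ≤ p ^ k := Nat.one_le_pow _ _ hp.pos
  have h3 : p ∣ p ^ k - (p ^ k - 1) := Nat.dvd_sub h1 h
  rw [Nat.sub_sub_self h2] at h3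
  exact hp.one_lt.ne' (Nat.dvd_one.1 h3)

/-- the power of `p` in the order -/
theorem p_part {L : Subgroup (Equiv.Perm Ω)} {p : ℕ} (h : PSLType L p 3 1) (hp3 : 3 ≤ p) :
    p ^ 3 ∣ Nat.card L ∧ ¬ p ^ 4 ∣ Nat.card L := by
  obtain ⟨hLW, X, hXL, hXc, -⟩ := psl_data h
  have hp := h.2.2.1
  rw [pow_one, WW_three hp.two_le] at hLW hXc
  have h1 : ¬ p ∣ p - 1 := by
    have := not_dvd_pow_sub hp le_rfl
    rwa [pow_one] at this
  constructor
  · have h2 : p ^ 3 ∣ Nat.gcd 3 (p - 1) * ((p - 1) * Nat.card X) := hXc ▸ Dvd.intro _ rfl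
    have h3 : Nat.Coprime p (Nat.gcd 3 (p - 1)) :=
      (Nat.Prime.coprime_iff_not_dvd hp).2 fun h => h1 (h.trans (Nat.gcd_dvd_right _ _))
    have h4 : Nat.Coprime p (p - 1) := (Nat.Prime.coprime_iff_not_dvd hp).2 h1
    exact (Nat.Coprime.dvd_of_dvd_mul_left (h4.pow_left 3) (Nat.Coprime.dvd_of_dvd_mul_left (h3.pow_left 3) h2)).trans
      (Subgroup.card_dvd_of_le hXL)
  · intro h2
    have h3 : p ^ 3 * p ∣ p ^ 3 * (2 * ((p ^ 3 - 1) * ((p ^ 2 - 1) * (p - 1)))) := by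
      rw [← pow_succ]
      refine (h2.trans (Dvd.intro _ rfl)).trans (hLW.trans ?_)
      rw [mul_one]
      exact dvd_of_eq (by ring)
    have h4 := Nat.dvd_of_mul_dvd_mul_left (pow_pos hp.pos 3) h3
    rcases hp.dvd_mul.1 h4 with h5 | h5
    · have := Nat.le_of_dvd (by norm_num) h5
      omega
    · rcases hp.dvd_mul.1 h5 with h6 | h6
      · exact not_dvd_pow_sub hp (by norm_num) h6
      · rcases hp.dvd_mul.1 h6 with h7 | h7
        · exact not_dvd_pow_sub hp (by norm_num) h7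
        · exact h1 h7

/-- the Sylow `p`-subgroups are not abelian -/
theorem sylow_nonab {L : Subgroup (Equiv.Perm Ω)} {p : ℕ} (h : PSLType L p 3 1) (hp3 : 3 ≤ p) (R : Subgroup L)
    (hR : Nat.card R = p ^ 3) : ¬ IsMulCommutative R := by
  intro hcomm
  have hp := h.2.2.1
  have hpf := Fact.mk hp
  obtain ⟨h3, h4⟩ := p_part h hp3
  obtain ⟨-, X, hXL, -, -, F, i1, i2, hF, ⟨e⟩⟩ := psl_data h
  rw [pow_one] at hF
  have hch : CharP F p := by
    obtain ⟨ℓ, hℓ⟩ := CharP.exists F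
    obtain ⟨n, hℓp, hn⟩ := FiniteField.card F ℓ
    have h5 : ℓ ∣ p := by
      rw [← hF, hn]
      exact dvd_pow_self ℓ n.2.ne'
    have h6 := (Nat.prime_dvd_prime_iff_eq hℓp hp).1 h5
    rwa [h6] at hℓ
  obtain ⟨U, hU, hUn⟩ := exists_nonab F (p := p) hp3
  have hRp : IsPGroup p R := IsPGroup.of_card hR
  obtain ⟨S, hS⟩ := hRp.exists_le_sylow
  have hSc : Nat.card S = p ^ 3 := by
    rw [S.card_eq_multiplicity]
    congr 1
    have h5 := (hp.pow_dvd_iff_le_factorization Nat.card_pos.ne').1 h3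
    have h6 : ¬ 4 ≤ (Nat.card L).factorization p := fun h => h4 ((hp.pow_dvd_iff_le_factorization Nat.card_pos.ne').2 h)
    omega
  have hRS : R = S := Subgroup.eq_of_le_of_card_ge hS (by
    rw [hR]
    exact hSc.le)
  let ψ : Matrix.ProjectiveSpecialLinearGroup (Fin 3) F →* L := (Subgroup.inclusion hXL).comp e.symm.toMonoidHom
  have hψ : Function.Injective ψ := (Subgroup.inclusion_injective hXL).comp e.symm.injective
  have hU' : IsPGroup p (U.map ψ) := hU.map ψ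
  obtain ⟨S', hS'⟩ := hU'.exists_le_sylow
  have hSS : Nonempty (S ≃* S') := ⟨Sylow.equiv S S'⟩
  obtain ⟨f⟩ := hSS
  apply hUn
  refine ⟨⟨fun x y => Subtype.ext (hψ ?_)⟩⟩
  have hx : ψ x ∈ S' := hS' ⟨x, x.2, rfl⟩
  have hy : ψ y ∈ S' := hS' ⟨y, y.2, rfl⟩
  have h5 : (⟨ψ x, hx⟩ : S') * ⟨ψ y, hy⟩ = ⟨ψ y, hy⟩ * ⟨ψ x, hx⟩ := by
    apply f.symm.injective
    rw [map_mul, map_mul]
    have h6 : ∀ u v : S, u * v = v * u := by
      intro u v
      have h7 := hcomm.is_comm.comm ⟨(u : L), by rw [hRS]; exact u.2⟩ ⟨(v : L), by rw [hRS]; exact v.2⟩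
      exact Subtype.ext (congrArg (fun z : R => (z : L)) h7)
    exact h6 _ _
  change ψ ((x : Matrix.ProjectiveSpecialLinearGroup (Fin 3) F) * y) = ψ (y * x)
  rw [map_mul, map_mul]
  exact congrArg (fun z : S' => (z : L)) h5

omit [Finite Ω] in
theorem card_stab (L : Subgroup (Equiv.Perm Ω)) (a : Ω) : Nat.card (stabilizer L a) = Nat.card (Stb L a) := by
  have h2 : (MulAction.stabilizer L a).map L.subtype = Stb L a := by
    ext x
    constructor
    · rintro ⟨y, hy, rfl⟩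
      exact ⟨y.2, hy⟩
    · rintro ⟨hx, hxb⟩
      exact ⟨⟨x, hx⟩, hxb, rfl⟩
  rw [← h2, Subgroup.card_map_of_injective (Subgroup.subtype_injective L)]

/-- **the order of the two point stabilizer** -/
theorem T_two {L : Subgroup (Equiv.Perm Ω)} {s p : ℕ} {a b : Ω} {Q : Subgroup (Equiv.Perm Ω)} (hQ : LQ L s p a b Q)
    (h : PSLType L p 3 1) (hp3 : 3 ≤ p) :
    (Nat.card ↥(Stb L a ⊓ Stb L b)).factorization 2 ≤ 2 * (p - 1).factorization 2 := by
  classical
  have hp := hQ.prime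
  have hpf := Fact.mk hp
  have h2 := hQ.two
  have hΩ := hQ.card
  have hab := hQ.ne
  have hnt : Nontrivial Ω := ⟨a, b, hab⟩
  have hs0 := h.2.2.2.1
  rw [hΩ] at hs0
  have hs := s_eq hp hs0
  obtain ⟨hL3, hL4⟩ := p_part h hp3
  let M := ↥(stabilizer L a)
  let Δ := ↥(SubMulAction.ofStabilizer L a)
  have hfΔ : Finite Δ := inferInstanceAs (Finite {x // x ∈ SubMulAction.ofStabilizer L a})
  have hΔ : Nat.card Δ = p * (p + 1) := by
    have h3 := SubMulAction.nat_card_ofStabilizer_add_one_eq L a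
    rw [hΩ, hs] at h3
    exact Nat.add_right_cancel h3
  have hfaith : FaithfulSMul M Δ := ⟨fun {m₁ m₂} hm => by
    apply Subtype.ext
    apply Subtype.ext
    ext w
    by_cases hw : w = a
    · rw [hw]
      exact (m₁.2 : (m₁ : L) • a = a).trans (m₂.2 : (m₂ : L) • a = a).symm
    · exact congrArg Subtype.val (hm ⟨w, hw⟩)⟩
  have htr : IsPretransitive M Δ := ⟨fun x y => by
    obtain ⟨g, hg, h1, h3⟩ := h2 a x.1 a y.1 (Ne.symm x.2) (Ne.symm y.2)
    exact ⟨⟨⟨g, hg⟩, h1⟩, Subtype.ext h3⟩⟩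
  have hM : Nat.card M = s * Nat.card ↥(Stb L a ⊓ Stb L b) := by
    rw [← card_stb_eq h2 hΩ hab]
    exact card_stab L a
  have hLM : Nat.card L = (s + 1) * Nat.card M := by
    rw [card_L_eq h2 hΩ hab, ← card_stab L a]
  have hps1 : ¬ p ∣ s + 1 := by
    intro h3
    have h4 : p ∣ 1 := (Nat.dvd_add_right (show p ∣ s from hs ▸ Dvd.intro _ rfl)).1 h3
    have := Nat.le_of_dvd one_pos h4
    omega
  have hM3 : p ^ 3 ∣ Nat.card M := by
    rw [hLM] at hL3
    exact (((Nat.Prime.coprime_iff_not_dvd hp).2 hps1).pow_left 3).dvd_of_dvd_mul_left hL3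
  have hM4 : ¬ p ^ 4 ∣ Nat.card M := fun h3 => hL4 (h3.trans (hLM ▸ Dvd.intro_left _ rfl))
  -- the `p`-subgroup
  let ι : M →* Equiv.Perm Ω := L.subtype.comp (stabilizer L a).subtype
  have hι : Function.Injective ι := L.subtype_injective.comp (stabilizer L a).subtype_injective
  let Q' : Subgroup M := Q.comap ι
  have hQn : Q'.Normal := ⟨fun x hx m => by
    have h3 := hQ.Q_normal.conj_mem ⟨ι x, hQ.Q_le hx⟩ (mem_subgroupOf.2 hx) ⟨ι m, ⟨(m : L).2, m.2⟩⟩
    have h4 := mem_subgroupOf.1 h3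
    change ι (m * x * m⁻¹) ∈ Q
    rw [map_mul, map_mul, map_inv]
    exact h4⟩
  have hQp : IsPGroup p Q' := hQ.Q_p.comap_of_injective ι hι
  have hQ1 : Nontrivial Q' := by
    obtain ⟨x, hx1⟩ := Subgroup.ne_bot_iff_exists_ne_one.1 hQ.Q_ne
    have hxs := hQ.Q_le x.2
    refine ⟨⟨⟨⟨x.1, hxs.1⟩, hxs.2⟩, x.2⟩, 1, fun h3 => hx1 (Subtype.ext ?_)⟩
    exact congrArg (fun z : Q' => ι (z : M)) h3
  let V : Subgroup M := (center Q').map Q'.subtype
  have hVn : V.Normal := inferInstance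
  have hVab : IsMulCommutative V := inferInstance
  have hVp : IsPGroup p V := (hQp.to_subgroup _).map _
  have hcn : Nontrivial (center Q') := hQp.center_nontrivial
  have hV1 : V ≠ ⊥ := by
    intro h3
    have h4 := (map_eq_bot_iff_of_injective _ Q'.subtype_injective).1 h3
    have h5 := (Subgroup.nontrivial_iff_ne_bot (center Q')).1 hcn
    exact h5 h4
  have hVc : ¬ IsCyclic V := by
    intro hc
    have h3 : (V.map (stabilizer L a).subtype).subgroupOf (stabilizer L a) = V :=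
      Subgroup.comap_map_eq_self_of_injective (stabilizer L a).subtype_injective V
    refine not_cyclic h2 hΩ hab h hp3 (V.map (stabilizer L a).subtype) (map_subtype_le _) ?_ ?_ ?_
    · rw [h3]
      exact hVn
    · intro h4
      exact hV1 ((map_eq_bot_iff_of_injective _ (stabilizer L a).subtype_injective).1 h4)
    · exact (V.equivMapOfInjective _ (stabilizer L a).subtype_injective).isCyclic.1 hc
  have hR : ∀ R : Subgroup M, Nat.card R = p ^ 3 → ¬ IsMulCommutative R := by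
    intro R hR hcomm
    refine sylow_nonab h hp3 (R.map (stabilizer L a).subtype) ?_ inferInstance
    rw [Subgroup.card_map_of_injective (stabilizer L a).subtype_injective, hR]
  obtain ⟨n, hn⟩ := graph_main hΔ V hVab hVp hVc hM4 hM3 hR
  rw [hM, hs] at hn
  have hT0 : Nat.card ↥(Stb L a ⊓ Stb L b) ≠ 0 := Nat.card_pos.ne'
  have e1 : p ^ 2 - 1 = (p - 1) * (p + 1) := by
    have := Nat.sq_sub_sq p 1
    rw [one_pow] at this
    rw [this, mul_comm]
  have e2 : p ^ 2 - p = p * (p - 1) := by rw [Nat.mul_sub, mul_one, pow_two]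
  have hp0 : p ≠ 0 := hp.ne_zero
  have hp10 : p - 1 ≠ 0 := by omega
  have hpp : p + 1 ≠ 0 := by omega
  rw [e1, e2] at hn
  have h3 := (Nat.factorization_le_iff_dvd (mul_ne_zero (mul_ne_zero hp0 hpp) hT0)
    (mul_ne_zero (pow_ne_zero n hp0) (mul_ne_zero (mul_ne_zero hp10 hpp) (mul_ne_zero hp0 hp10)))).2 hn 2
  rw [Nat.factorization_mul (mul_ne_zero hp0 hpp) hT0, Nat.factorization_mul hp0 hpp,
    Nat.factorization_mul (pow_ne_zero n hp0) (mul_ne_zero (mul_ne_zero hp10 hpp) (mul_ne_zero hp0 hp10)),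
    Nat.factorization_mul (mul_ne_zero hp10 hpp) (mul_ne_zero hp0 hp10), Nat.factorization_mul hp10 hpp,
    Nat.factorization_mul hp0 hp10, Nat.factorization_pow] at h3
  have h4 : p.factorization 2 = 0 := by
    apply Nat.factorization_eq_zero_of_not_dvd
    intro h5
    have := (Nat.prime_dvd_prime_iff_eq Nat.prime_two hp).1 h5
    omega
  simp only [Finsupp.add_apply, Finsupp.smul_apply, smul_eq_mul, h4, mul_zero, zero_add] at h3
  omega

end Cfsg.Agent.H354.PP
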