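import Cfsg.Agent.H354.PP.Mers
import Cfsg.Agent.Lib.Zsigmondy

/-!
# S3414 [PSLPSL]: arithmetic (helper354)
-/

set_option autoImplicit false
set_option maxRecDepth 100000

namespace Cfsg.Agent.H354.PP

open Subgroup Cfsg.Agent.H873.Tits

universe u v

/-- a primitive prime divisor does not divide the bound -/
theorem not_dvd_TB {p r e d f : ℕ} (hr : r.Prime) (he : ∀ m, r ∣ p ^ m - 1 ↔ e ∣ m) (her : e ∣ r - 1) (hrp : ¬ r ∣ p)
    (hd : 3 ≤ d) (hf : 1 ≤ f) (hle : f * (d - 1) ≤ e) : ¬ r ∣ TB (p ^ f) d f := by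
  have h2 : f * 2 ≤ f * (d - 1) := Nat.mul_le_mul_left _ (by omega)
  have hre : e ≤ r - 1 := Nat.le_of_dvd (by have := hr.two_le; omega) her
  have key : ∀ m, 0 < m → m < e → ¬ r ∣ p ^ m - 1 := fun m h1 h3 h4 => by
    have := Nat.le_of_dvd h1 ((he m).1 h4)
    omega
  intro h
  rw [TB] at h
  rcases hr.dvd_mul.1 h with h1 | h1
  · rcases hr.dvd_mul.1 h1 with h3 | h3
    · rcases hr.dvd_mul.1 h3 with h4 | h4
      · have := Nat.le_of_dvd (by norm_num) h4
        omega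
      · have := Nat.le_of_dvd (by omega) h4
        omega
    · exact key f (by omega) (by omega) h3
  · obtain ⟨i, hi, h3⟩ := (hr.prime.dvd_finsetProd_iff _).1 h1
    rw [Finset.mem_Ico] at hi
    have h4 : (p ^ f) ^ d - (p ^ f) ^ i = (p ^ f) ^ i * (p ^ (f * (d - i)) - 1) := by
      rw [Nat.mul_sub, mul_one, ← pow_mul, ← pow_mul, ← pow_add, ← mul_add, Nat.add_sub_cancel' hi.2.le]
    rw [h4] at h3
    rcases hr.dvd_mul.1 h3 with h5 | h5
    · exact hrp (hr.dvd_of_dvd_pow (hr.dvd_of_dvd_pow h5))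
    · have h6 : f * (d - i) < f * (d - 1) := Nat.mul_lt_mul_of_pos_left (by omega) (by omega)
      exact key (f * (d - i)) (Nat.mul_pos (by omega) (by omega)) (by omega) h5

/-- a primitive prime divisor divides `s` -/
theorem dvd_s {p r d f s : ℕ} (hr : r.Prime) (he : ∀ m, r ∣ p ^ m - 1 ↔ f * (d - 1) ∣ m)
    (hd : 3 ≤ d) (hf : 1 ≤ f) (hs : s * (p ^ f - 1) = (p ^ f) ^ d - p ^ f) : r ∣ s := by
  have h1 : r ∣ s * (p ^ f - 1) := by
    have h2 : (p ^ f) ^ d - p ^ f = p ^ f * (p ^ (f * (d - 1)) - 1) := by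
      rw [Nat.mul_sub, mul_one, ← pow_mul, ← pow_add]
      congr 2
      obtain ⟨k, rfl⟩ := Nat.exists_eq_add_of_le hd
      rw [show 3 + k - 1 = k + 2 by omega]
      ring
    rw [hs, h2]
    exact ((he _).2 dvd_rfl).mul_left _
  rcases hr.dvd_mul.1 h1 with h2 | h2
  · exact h2
  · exfalso
    have h3 := Nat.le_of_dvd (by omega) ((he f).1 h2)
    have h4 : f * 2 ≤ f * (d - 1) := Nat.mul_le_mul_left _ (by omega)
    omega

def S2 (d f : ℕ) : ℕ := ((2 ^ f) ^ d - 2 ^ f) / (2 ^ f - 1)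

def chk (n s t A B : ℕ) : Bool :=
  (([3, 5, 7, 31] : List ℕ).any fun r => ([1, 2, 3, 4] : List ℕ).any fun a => decide (r ^ a ∣ s * t) &&
    !decide (r ^ (a * (n / 2 - 1)) ∣ A * B)) ||
  (decide (n = 4) && !decide ((s + t) ∣ 2 * s * t * (1 + s) * (1 + t))) ||
  (decide (n = 6) && decide (Nat.sqrt (s * t) ^ 2 ≠ s * t)) ||
  (decide (n = 8) && decide (Nat.sqrt (2 * s * t) ^ 2 ≠ 2 * s * t))

theorem small_all : ∀ d ∈ Finset.Icc 3 7, ∀ f ∈ Finset.Icc 1 3, ∀ d' ∈ Finset.Icc 3 7, ∀ f' ∈ Finset.Icc 1 3,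
    f * (d - 1) = 6 → f' * (d' - 1) ≤ 6 → ∀ n ∈ ([4, 6, 8] : List ℕ),
      chk n (S2 d f) (S2 d' f') (TB (2 ^ f) d f) (TB (2 ^ f') d' f') = true ∨
        (d = 7 ∧ f = 1 ∧ d' = 7 ∧ f' = 1 ∧ n = 4) := by decide +kernel

variable {Ω : Type v} [Finite Ω]

/-- degree 13 -/
theorem no_idx13 {L L' : Subgroup (Equiv.Perm Ω)} {a b : Ω} (h2 : TwoTr L) (hΩ : Nat.card Ω = 12 + 1) (hab : a ≠ b)
    (h : PSLType L 3 3 1) (hL : L' ≤ L) (h2' : TwoTr L')
    (hT : (Nat.card ↥(Stb L a ⊓ Stb L b)).factorization 2 ≤ 2) (h4 : 2 ≤ (L'.relIndex L).factorization 2) : False := by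
  have hnt : Nontrivial Ω := ⟨a, b, hab⟩
  have hp : Nat.Prime 13 := by norm_num
  have hcL : Nat.card L = 156 * Nat.card ↥(Stb L a ⊓ Stb L b) := by
    rw [card_L_eq h2 hΩ hab, card_stb_eq h2 hΩ hab]
    ring
  obtain ⟨hLW, X, hXL, hXc, -⟩ := psl_data h
  set T := Nat.card ↥(Stb L a ⊓ Stb L b) with hTdef
  have hT0 : T ≠ 0 := Nat.card_pos.ne'
  have hW : WW (3 ^ 1) 3 = 11232 := by decide +kernel
  rw [hW, show (3 ^ 1 - 1 : ℕ) = 2 by norm_num] at hXc
  rw [hW, show (3 ^ 1 - 1 : ℕ) = 2 by norm_num, hcL] at hLW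
  have hX : Nat.card X = 5616 := by
    rw [show Nat.gcd 3 2 = 1 by norm_num] at hXc
    omega
  have h36 : 36 ∣ T := by
    have h5 := Subgroup.card_dvd_of_le hXL
    rw [hX, hcL] at h5
    exact Nat.dvd_of_mul_dvd_mul_left (show 0 < 156 by norm_num) h5
  have h72 : T ∣ 72 := by
    have h5 : 312 * T ∣ 312 * 72 := by
      have : 156 * T * 2 = 312 * T := by ring
      rw [this] at hLW
      exact hLW
    exact Nat.dvd_of_mul_dvd_mul_left (show 0 < 312 by norm_num) h5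
  have hT36 : T = 36 := by
    obtain ⟨c, hc⟩ := h36
    rw [hc] at h72
    have h5 : c ∣ 2 := Nat.dvd_of_mul_dvd_mul_left (show 0 < 36 by norm_num) h72
    rcases (Nat.dvd_prime Nat.prime_two).1 h5 with rfl | rfl
    · rw [hc]
    · exfalso
      have h6 : ¬ 3 ≤ T.factorization 2 := by omega
      apply h6
      rw [← Nat.prime_two.pow_dvd_iff_le_factorization hT0, hc]
      norm_num
  rw [hT36] at hcL
  obtain ⟨a', b', m, n, ha, hb, ham, hbn, hmn, hn⟩ :=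
    Cfsg.Agent.H270.Tits.prime_degree hp (by rw [hΩ]) L' L hL (Cfsg.Agent.H270.Tits.pretrans h2')
  have hb' : b' = 432 := by omega
  have hn' : n ≤ 12 := Nat.le_of_dvd (by norm_num) hn
  have hn3 : n = 3 := by
    have h5 : b' % 13 = n % 13 := hbn
    rw [hb'] at h5
    omega
  rw [hn3] at hmn
  have h12 := Cfsg.Agent.H270.Tits.card_twoTr h2' (n := 12) (by norm_num) hΩ
  have hmul := (L'.subgroupOf L).card_mul_index
  rw [Cfsg.Agent.H270.Tits.card_subgroupOf', inf_of_le_left hL] at hmul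
  have hmul' : Nat.card L' * L'.relIndex L = Nat.card L := hmul
  obtain ⟨c, hc⟩ := h12
  have h0 : L'.relIndex L ≠ 0 := by
    intro h0
    rw [h0] at h4
    simp at h4
  have h9 : 2 ^ 2 ∣ L'.relIndex L := (Nat.prime_two.pow_dvd_iff_le_factorization h0).2 h4
  obtain ⟨j, hj⟩ := h9
  rw [hc, hj, hcL] at hmul'
  have h10 : c * j = 9 := by
    have : 156 * 4 * (c * j) = 156 * 4 * 9 := by
      calc 156 * 4 * (c * j) = (12 + 1) * 12 * c * (2 ^ 2 * j) := by ring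
        _ = 156 * 36 := hmul'
        _ = 156 * 4 * 9 := by norm_num
    exact Nat.eq_of_mul_eq_mul_left (by norm_num) this
  have hc9 : c ∣ 9 := Dvd.intro _ h10
  have hcm : c ∈ Nat.divisors 9 := Nat.mem_divisors.2 ⟨hc9, by norm_num⟩
  have d9 : Nat.divisors 9 = {1, 3, 9} := by decide
  rw [d9] at hcm
  simp only [Finset.mem_insert, Finset.mem_singleton] at hcm
  have hac : a' = 12 * c := by omega
  have hm' : m ∈ Nat.divisors 3 := Nat.mem_divisors.2 ⟨hmn, by norm_num⟩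
  have d3 : Nat.divisors 3 = {1, 3} := by decide
  rw [d3] at hm'
  simp only [Finset.mem_insert, Finset.mem_singleton] at hm'
  have ham' : a' % 13 = m % 13 := ham
  rcases hcm with rfl | rfl | rfl <;> rcases hm' with rfl | rfl <;> omega

end Cfsg.Agent.H354.PP
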