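import Cfsg.Agent.H873.Tits.Stmts
import Cfsg.Agent.H270.Tits.OrdA
import Cfsg.Agent.H183.OutPSL

/-!
# S3414 [PSLPSL]: orders (helper354)
-/

set_option autoImplicit false

namespace Cfsg.Agent.H354.PP

open Subgroup Cfsg.Agent.H873.Tits

universe u v

variable {Ω : Type v} [Finite Ω]

omit [Finite Ω] in
theorem card_stb (M : Subgroup (Equiv.Perm Ω)) (b : Ω) :
    Nat.card M = (MulAction.orbit M b).ncard * Nat.card (Stb M b) := by
  have h1 := (MulAction.stabilizer M b).card_mul_index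
  have h2 : (MulAction.stabilizer M b).map M.subtype = Stb M b := by
    ext x
    constructor
    · rintro ⟨y, hy, rfl⟩
      exact ⟨y.2, hy⟩
    · rintro ⟨hx, hxb⟩
      exact ⟨⟨x, hx⟩, hxb, rfl⟩
  rw [MulAction.index_stabilizer] at h1
  rw [← h2, Subgroup.card_map_of_injective (Subgroup.subtype_injective M), mul_comm, h1]

omit [Finite Ω] in
theorem card_L_eq {L : Subgroup (Equiv.Perm Ω)} (h : TwoTr L) {s : ℕ} (hΩ : Nat.card Ω = s + 1) {a b : Ω}
    (hab : a ≠ b) : Nat.card L = (s + 1) * Nat.card (Stb L a) := by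
  rw [card_stb L a]
  congr 1
  have h1 : MulAction.orbit L a = Set.univ := by
    rw [Set.eq_univ_iff_forall]
    intro x
    have hnt : Nontrivial Ω := ⟨a, b, hab⟩
    obtain ⟨y, hy⟩ := exists_ne x
    obtain ⟨g, hg, h1, -⟩ := h a b x y hab hy.symm
    exact ⟨⟨g, hg⟩, h1⟩
  rw [h1, Set.ncard_univ, hΩ]

theorem card_stb_eq {L : Subgroup (Equiv.Perm Ω)} (h : TwoTr L) {s : ℕ} (hΩ : Nat.card Ω = s + 1) {a b : Ω}
    (hab : a ≠ b) : Nat.card (Stb L a) = s * Nat.card ↥(Stb L a ⊓ Stb L b) := by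
  rw [card_stb (Stb L a) b]
  have h1 : MulAction.orbit (Stb L a) b = {a}ᶜ := by
    ext x
    rw [Set.mem_compl_singleton_iff]
    constructor
    · rintro ⟨⟨g, hg, hga⟩, rfl⟩ hx
      apply hab
      have h2 : g b = g a := by
        rw [show g a = a from hga]
        exact hx
      exact (g.injective h2).symm
    · intro hx
      obtain ⟨g, hg, h1, h2⟩ := h a b a x hab (Ne.symm hx)
      exact ⟨⟨g, hg, h1⟩, h2⟩
  have h2 : Stb (Stb L a) b = Stb L a ⊓ Stb L b := by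
    ext x
    constructor
    · rintro ⟨hx, hb⟩
      exact ⟨hx, hx.1, hb⟩
    · rintro ⟨hx, hb⟩
      exact ⟨hx, hb.2⟩
  rw [h1, h2, Set.ncard_compl, Set.ncard_singleton, hΩ, Nat.add_sub_cancel]

/-- the product `∏ (q ^ d - q ^ i)` -/
def WW (q d : ℕ) : ℕ := ∏ i : Fin d, (q ^ d - q ^ (i : ℕ))

/-- **data of a group of `PSL` type** -/
theorem psl_data {L : Subgroup (Equiv.Perm Ω)} {p d f : ℕ} (h : PSLType L p d f) :
    Nat.card L * (p ^ f - 1) ∣ 2 * f * WW (p ^ f) d ∧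
    ∃ X : Subgroup (Equiv.Perm Ω), X ≤ L ∧ Nat.gcd d (p ^ f - 1) * ((p ^ f - 1) * Nat.card X) = WW (p ^ f) d ∧
      (∀ N : Subgroup (Equiv.Perm Ω), N ≤ L → (N.subgroupOf L).Normal → N ≠ ⊥ → X ≤ N) ∧
      ∃ (F : Type) (_ : Field F) (_ : Fintype F), Fintype.card F = p ^ f ∧
        Nonempty (X ≃* Matrix.ProjectiveSpecialLinearGroup (Fin d) F) := by
  obtain ⟨hd, hf, hp, -, X, hXL, hXn, hmin, F, _, _, hF, ⟨e⟩⟩ := h
  have hpf := Fact.mk hp
  have hs : IsSimpleGroup (Matrix.ProjectiveSpecialLinearGroup (Fin d) F) := S0249.result d hd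
  have hXc : Nat.gcd d (p ^ f - 1) * ((p ^ f - 1) * Nat.card X) = WW (p ^ f) d := by
    rw [Nat.card_congr e.toEquiv]
    exact S0243.result hF d (by omega)
  refine ⟨?_, X, hXL, hXc, hmin, F, _, _, hF, ⟨e⟩⟩
  have e' : ↥(X.subgroupOf L) ≃* Matrix.ProjectiveSpecialLinearGroup (Fin d) F := (subgroupOfEquivOfLe hXL).trans e
  have hcent : centralizer ((X.subgroupOf L : Subgroup L) : Set L) = ⊥ := by
    by_contra hne
    have h1 := hmin ((centralizer ((X.subgroupOf L : Subgroup L) : Set L)).map L.subtype) (map_subtype_le _) (by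
      rw [← comap_subtype, comap_map_eq_self_of_injective (subtype_injective L)]
      infer_instance) (fun h => hne ((map_eq_bot_iff_of_injective _ (subtype_injective L)).1 h))
    have hcomm : IsMulCommutative (X.subgroupOf L) := by
      refine ⟨⟨fun a b => Subtype.ext ?_⟩⟩
      obtain ⟨c, hc1, hc2⟩ := h1 (mem_subgroupOf.1 a.2)
      have hca : c = a.1 := subtype_injective L hc2
      have := mem_centralizer_iff.1 hc1 b.1 b.2
      rw [hca] at this
      exact this.symm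
    have hcomm' : ∀ a b : Matrix.ProjectiveSpecialLinearGroup (Fin d) F, a * b = b * a := by
      intro a b
      apply e'.symm.injective
      rw [map_mul, map_mul]
      exact hcomm.is_comm.comm _ _
    have h3 := Cfsg.Agent.H183.OutPSL.center_psl (F := F) (n := d) (by omega) (fun h => by omega)
    have h4 : center (Matrix.ProjectiveSpecialLinearGroup (Fin d) F) = ⊤ := by
      rw [Subgroup.eq_top_iff']
      intro g
      rw [Subgroup.mem_center_iff]
      intro k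
      exact hcomm' k g
    exact bot_ne_top (h3.symm.trans h4)
  have h2 := Cfsg.Agent.Omega.TwoF.Rk.card_dvd (X.subgroupOf L) e' hcent
  rw [S0813.result p f hf hF d (by omega) (fun h => by omega), S0265.result d, if_neg (by omega)] at h2
  have h1 := S0242.result hF d (by omega)
  have h3 : 2 * f * Nat.card (Matrix.SpecialLinearGroup (Fin d) F) * (p ^ f - 1) = 2 * f * WW (p ^ f) d := by
    rw [WW, ← h1]; ring
  rw [← h3]
  exact Nat.mul_dvd_mul_right h2 _

/-- the bound for the two point stabilizer -/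
def TB (q d f : ℕ) : ℕ := 2 * f * (q - 1) * ∏ i ∈ Finset.Ico 2 d, (q ^ d - q ^ i)

theorem WW_eq {q d : ℕ} (hd : 2 ≤ d) : WW q d = (q ^ d - 1) * (q ^ d - q) * ∏ i ∈ Finset.Ico 2 d, (q ^ d - q ^ i) := by
  rw [WW, Fin.prod_univ_eq_prod_range (fun i => q ^ d - q ^ i) d, ← Finset.prod_range_mul_prod_Ico _ hd,
    Finset.prod_range_succ, Finset.prod_range_one, pow_zero, pow_one]

theorem card_rel {p d f s : ℕ} (hp : p.Prime) (hf : 1 ≤ f) (hd : 3 ≤ d)
    (h : (s + 1) * (p ^ f - 1) = (p ^ f) ^ d - 1) : s * (p ^ f - 1) = (p ^ f) ^ d - p ^ f := by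
  have hq : 2 ≤ p ^ f := hp.two_le.trans (Nat.le_self_pow (by omega) p)
  have hqd : p ^ f ≤ (p ^ f) ^ d := Nat.le_self_pow (by omega) _
  rw [add_mul, one_mul] at h
  omega

theorem T_dvd {L : Subgroup (Equiv.Perm Ω)} {p d f s : ℕ} (h2 : TwoTr L) (hΩ : Nat.card Ω = s + 1) {a b : Ω}
    (hab : a ≠ b) (h : PSLType L p d f) : Nat.card ↥(Stb L a ⊓ Stb L b) ∣ TB (p ^ f) d f := by
  obtain ⟨h1, -⟩ := psl_data h
  obtain ⟨hd, hf, hp, hc, -⟩ := h
  rw [hΩ] at hc
  have hs := card_rel hp hf hd hc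
  have hq : 2 ≤ p ^ f := hp.two_le.trans (Nat.le_self_pow (by omega) p)
  rw [card_L_eq h2 hΩ hab, card_stb_eq h2 hΩ hab, WW_eq (by omega)] at h1
  have h3 := Nat.mul_dvd_mul_right h1 (p ^ f - 1)
  have h4 : (s + 1) * (s * Nat.card ↥(Stb L a ⊓ Stb L b)) * (p ^ f - 1) * (p ^ f - 1) =
      ((p ^ f) ^ d - 1) * ((p ^ f) ^ d - p ^ f) * Nat.card ↥(Stb L a ⊓ Stb L b) := by
    rw [← hc, ← hs]; ring
  have h5 : 2 * f * (((p ^ f) ^ d - 1) * ((p ^ f) ^ d - p ^ f) * ∏ i ∈ Finset.Ico 2 d, ((p ^ f) ^ d - (p ^ f) ^ i)) *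
      (p ^ f - 1) = ((p ^ f) ^ d - 1) * ((p ^ f) ^ d - p ^ f) * TB (p ^ f) d f := by
    rw [TB]; ring
  rw [h4, h5] at h3
  have hlt : p ^ f < (p ^ f) ^ d := by
    calc p ^ f = (p ^ f) ^ 1 := (pow_one _).symm
      _ < (p ^ f) ^ d := Nat.pow_lt_pow_right (by omega) (by omega)
  exact Nat.dvd_of_mul_dvd_mul_left (Nat.mul_pos (by omega) (by omega)) h3

theorem TB_ne_zero {p d f : ℕ} (hp : p.Prime) (hf : 1 ≤ f) : TB (p ^ f) d f ≠ 0 := by
  have hq : 2 ≤ p ^ f := hp.two_le.trans (Nat.le_self_pow (by omega) p)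
  rw [TB]
  refine mul_ne_zero (mul_ne_zero (by omega) (by omega)) (Finset.prod_ne_zero_iff.2 fun i hi => ?_)
  rw [Finset.mem_Ico] at hi
  have := Nat.pow_lt_pow_right (show 1 < p ^ f by omega) hi.2
  omega

end Cfsg.Agent.H354.PP
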